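import Groth.Agent.DixBrauer.Amitsur.Main
import Groth.Agent.DescLib.Reduced
import Mathlib.AlgebraicGeometry.Birational.Birational

/-!
# Birational Severi–Brauer varieties
-/

set_option autoImplicit false
set_option backward.isDefEq.respectTransparency.types false
set_option linter.style.haveILetI false
set_option linter.unusedSectionVars false
set_option synthInstance.maxHeartbeats 200000

universe u

open CategoryTheory CategoryTheory.Limits AlgebraicGeometry
open scoped TensorProduct

noncomputable section

attribute [local instance] Curv2.stalkAlgebra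

namespace Groth.Agent.DixBrauer.Amitsur

variable {k : Type u} [Field k]

/-- The Severi–Brauer scheme of a central simple algebra is integral. -/
theorem isIntegral_of_isSBOf {A : Type u} [Ring A] [Algebra k A] [Algebra.IsCentral k A] [IsSimpleRing A]
    {n : ℕ} (hn : 0 < n) (hA : Module.finrank k A = n * n) {X : Scheme.{u}}
    (f : X ⟶ Spec (CommRingCat.of k)) (hX : BrSev.IsSBOf k A (n * n - n) f) : IsIntegral X := by
  obtain ⟨m, rfl⟩ : ∃ m, n = m + 1 := ⟨n - 1, by omega⟩
  haveI : FiniteDimensional k A := Module.finite_of_finrank_pos (by rw [hA]; positivity)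
  obtain ⟨K, _, _, d, hd, _, _, ⟨Φ⟩⟩ := CSALib.exists_galois_splitting k A
  obtain rfl : d = m + 1 := by
    have h := Φ.toLinearEquiv.finrank_eq
    rw [Module.finrank_baseChange, Module.finrank_matrix, Module.finrank_self, Fintype.card_fin, hA, mul_one] at h
    exact (Nat.mul_self_inj.1 h).symm
  obtain ⟨s⟩ := hX
  obtain ⟨e⟩ := SBBundle.SplitPn.nonempty_splitting s Φ hA
  haveI : IsIntegral (CohB1.ProjSpace m K) := H23.PnChart.isIntegral_projSpace m K
  let G : Spec (CommRingCat.of K) ⟶ Spec (CommRingCat.of k) := Spec.map (CommRingCat.ofHom (algebraMap k K))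
  haveI : Surjective G := ⟨fun z => ⟨IsLocalRing.closedPoint K, Subsingleton.elim _ _⟩⟩
  haveI : Flat G := inferInstance
  haveI : Surjective (BrSev.proj f K) := MorphismProperty.pullback_fst _ _ inferInstance
  haveI : Flat (BrSev.proj f K) := MorphismProperty.pullback_fst _ _ inferInstance
  let g : CohB1.ProjSpace m K ⟶ X := e.iso.inv ≫ BrSev.proj f K
  haveI : Flat g := MorphismProperty.comp_mem @Flat _ _ inferInstance inferInstance
  have hg : Function.Surjective g := g.surjective
  haveI : IsReduced X := DescLib.isReduced_of_jointly_surjective (ι := PUnit.{1}) (fun _ => g)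
    fun x => ⟨⟨⟩, hg x⟩
  haveI : IrreducibleSpace X :=
    { toPreirreducibleSpace :=
        ⟨by
          rw [← hg.range_eq, ← Set.image_univ]
          exact (PreirreducibleSpace.isPreirreducible_univ).image g g.continuous.continuousOn⟩
      toNonempty := ⟨g (Classical.arbitrary _)⟩ }
  exact isIntegral_of_irreducibleSpace_of_isReduced X

/-- A birational equivalence gives an embedding of function fields. -/
theorem exists_algHom_functionField {X Y : Scheme.{u}} [X.Over (Spec (CommRingCat.of k))]
    [Y.Over (Spec (CommRingCat.of k))] [IsIntegral X] [IsIntegral Y]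
    (h : Scheme.BirationalOver (X ↘ Spec (CommRingCat.of k)) (Y ↘ Spec (CommRingCat.of k))) :
    Nonempty (Y.functionField →ₐ[k] X.functionField) := by
  obtain ⟨f, hf⟩ := h
  have hη : genericPoint X ∈ f.source := by
    obtain ⟨x, hx⟩ := f.dense_source.nonempty
    exact ((genericPoint_spec X).specializes trivial).mem_open f.source.2 hx
  have hsub : Set.range (X.fromSpecStalk (genericPoint X)) ⊆ Set.range f.source.ι := by
    rw [Scheme.range_fromSpecStalk, Scheme.Opens.range_ι]
    exact fun y hy => (Specializes.mem_open hy f.source.2 hη)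
  let L : Type u := X.functionField
  let l := IsOpenImmersion.lift f.source.ι (X.fromSpecStalk (genericPoint X)) hsub
  let g : Spec X.functionField ⟶ Y := l ≫ f.iso.hom ≫ f.target.ι
  haveI : Nonempty (f.source : Scheme.{u}) := f.dense_source.nonempty.to_subtype
  haveI : IrreducibleSpace (f.source : Scheme.{u}) :=
    { toPreirreducibleSpace := f.source.ι.isOpenEmbedding.preirreducibleSpace
      toNonempty := ‹_› }
  have hl : l (IsLocalRing.closedPoint X.functionField) = genericPoint (f.source : Scheme.{u}) := by
    apply f.source.ι.isOpenEmbedding.injective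
    show (l ≫ f.source.ι) _ = f.source.ι _
    rw [IsOpenImmersion.lift_fac, Scheme.fromSpecStalk_closedPoint, genericPoint_eq_of_isOpenImmersion]
  have hg : g (IsLocalRing.closedPoint X.functionField) = genericPoint Y := by
    show (l ≫ f.iso.hom ≫ f.target.ι) _ = _
    rw [Scheme.Hom.comp_apply, hl]
    exact genericPoint_eq_of_isOpenImmersion (f.iso.hom ≫ f.target.ι)
  obtain ⟨ι, hι⟩ := exists_factor (L := L) g (genericPoint Y) hg
  refine ⟨{ ι with commutes' := fun a => ?_ }⟩
  have h1 := congrArg (· ≫ (Y ↘ Spec (CommRingCat.of k))) hι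
  simp only [Category.assoc, fromSpecStalk_over, ← Spec.map_comp, ← CommRingCat.ofHom_comp] at h1
  have h2 : g ≫ (Y ↘ Spec (CommRingCat.of k)) =
      Spec.map (CommRingCat.ofHom (algebraMap k X.functionField)) := by
    show (l ≫ f.iso.hom ≫ f.target.ι) ≫ _ = _
    rw [Category.assoc, Category.assoc, hf, ← Category.assoc, IsOpenImmersion.lift_fac]
    exact fromSpecStalk_over (k := k) (genericPoint X)
  rw [h2] at h1
  exact RingHom.congr_fun (congrArg CommRingCat.Hom.hom (Spec.map_injective h1)) a

/-- Algebras with birational Severi–Brauer varieties: one is similar to a power of the other. -/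
theorem similar_pow_of_birational {A B : Type u} [Ring A] [Algebra k A] [Algebra.IsCentral k A]
    [IsSimpleRing A] [Ring B] [Algebra k B] [Algebra.IsCentral k B] [IsSimpleRing B]
    {n m : ℕ} (hn : 0 < n) (hm : 0 < m) (hA : Module.finrank k A = n * n) (hB : Module.finrank k B = m * m)
    {X Y : Scheme.{u}} (f : X ⟶ Spec (CommRingCat.of k)) (g : Y ⟶ Spec (CommRingCat.of k))
    (hX : BrSev.IsSBOf k A (n * n - n) f) (hY : BrSev.IsSBOf k B (m * m - m) g)
    (hb : Scheme.BirationalOver f g) :
    ∃ e : ℕ, CSALib.Similar k B (⨂[k] _i : Fin e, A) := by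
  letI : X.Over (Spec (CommRingCat.of k)) := ⟨f⟩
  letI : Y.Over (Spec (CommRingCat.of k)) := ⟨g⟩
  haveI := isIntegral_of_isSBOf hn hA f hX
  haveI := isIntegral_of_isSBOf hm hB g hY
  haveI : FiniteDimensional k B := Module.finite_of_finrank_pos (by rw [hB]; positivity)
  obtain ⟨ι⟩ := exists_algHom_functionField (k := k) (X := X) (Y := Y) hb
  obtain ⟨sY⟩ := hY
  have h1 := (CSALib.splits_iff Y.functionField).1 (splits_functionField hm hB sY)
  letI : Algebra Y.functionField X.functionField := ι.toRingHom.toAlgebra
  haveI : IsScalarTower k Y.functionField X.functionField :=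
    IsScalarTower.of_algebraMap_eq fun a => (ι.commutes a).symm
  exact (splits_iff_similar_pow hn hA hX B).1
    ((CSALib.splits_iff X.functionField).2 (h1.splitMono X.functionField))

end Groth.Agent.DixBrauer.Amitsur
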